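import Cfsg.Agent.Lib.KnownB.UnitJordan.Lift

/-!
The centraliser of a unipotent element of given Jordan type in the unitary group.
-/

set_option autoImplicit false
set_option linter.unusedSectionVars false
set_option linter.style.haveILetI false

namespace CfsgLib.KnownB.UnitJordan

open Matrix CfsgLib.KnownB.JordanCent CfsgLib.Classical.Unitary

universe u

variable {F : Type u} [Field F] {σ : F →+* F} {t : ℕ} {d : Fin t → ℕ}
  {H : Matrix (Idx d) (Idx d) F}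

/-- The centraliser inside the isometry group. -/
abbrev Cent (σ : F →+* F) (H : Matrix (Idx d) (Idx d) F) : Type u :=
  {M : Matrix (Idx d) (Idx d) F // Com M ∧ adj σ H M * M = 1}

/-- Its elements congruent to one. -/
abbrev CentOne (hd : ∀ k, 1 ≤ d k) (σ : F →+* F) (H : Matrix (Idx d) (Idx d) F) : Type u :=
  {M : Matrix (Idx d) (Idx d) F // Com M ∧ adj σ H M * M = 1 ∧ ∀ i, blkM hd M i = 1}

/-- The kernel. -/
abbrev KerT (hd : ∀ k, 1 ≤ d k) (F : Type u) [Field F] : Type u :=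
  {a : Matrix (Idx d) (Idx d) F // InKer hd a}

/-- Its self-adjoint part. -/
abbrev SymT (hd : ∀ k, 1 ≤ d k) (σ : F →+* F) (H : Matrix (Idx d) (Idx d) F) : Type u :=
  {a : Matrix (Idx d) (Idx d) F // InKer hd a ∧ adj σ H a = a}

theorem card_ker (hd : ∀ k, 1 ≤ d k) [Fintype F] :
    Nat.card (KerT hd F) = Fintype.card F ^ Nat.card (Rest d) := by
  classical
  rw [← Nat.card_eq_fintype_card, ← Nat.card_fun]
  let ext : (Rest d → F) → (Par d → F) := fun v z =>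
    if h : (z.1.1.2 : ℕ) = 0 ∧ d z.1.1.1 = d z.1.2 then 0 else v ⟨z.1, z.2, h⟩
  have hblk : ∀ v i, blkM hd (mk d (ext v)) i = 0 := by
    intro v i
    ext ⟨k, hk⟩ ⟨l, hl⟩
    simp only [blkM, mk, Matrix.of_apply, Matrix.zero_apply, Nat.sub_self]
    rw [dif_pos ⟨le_rfl, by rw [zero_add, hk, hl]⟩]
    exact dif_pos ⟨rfl, hk.trans hl.symm⟩
  refine Nat.card_congr
    { toFun := fun a z => a.1 z.1.1 ⟨z.1.2, ⟨0, hd z.1.2⟩⟩
      invFun := fun v => ⟨mk d (ext v), commute_mk d _, hblk v⟩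
      left_inv := fun a => Subtype.ext ?_
      right_inv := fun v => funext fun z => ?_ }
  · refine (congrArg (mk d) (funext fun z => ?_)).trans
      (congrArg Subtype.val ((commutant d hd).symm_apply_apply ⟨a.1, a.2.1.eq⟩))
    obtain ⟨⟨⟨k, x⟩, l⟩, hz⟩ := z
    show ext (fun z => a.1 z.1.1 ⟨z.1.2, ⟨0, hd z.1.2⟩⟩) ⟨(⟨k, x⟩, l), hz⟩ =
      a.1 ⟨k, x⟩ ⟨l, ⟨0, hd l⟩⟩
    by_cases h : (x : ℕ) = 0 ∧ d k = d l
    · refine (dif_pos h).trans (Eq.symm ?_)
      refine Eq.trans ?_ (congrFun (congrFun (a.2.2 (d k)) ⟨k, rfl⟩) ⟨l, h.2.symm⟩)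
      exact congrArg (fun w => a.1 ⟨k, w⟩ ⟨l, ⟨0, hd l⟩⟩) (Fin.ext h.1)
    · exact dif_neg h
  · obtain ⟨z, hz1, hz2⟩ := z
    show mk d (ext v) _ _ = _
    have e := congrFun ((commutant d hd).apply_symm_apply (ext v)) ⟨z, hz1⟩
    exact e.trans (dif_neg hz2)

theorem card_ker_sq (hH : InvForm σ d H) (h2 : ∀ x, σ (σ x) = x) (hne : σ ≠ RingHom.id F) :
    Nat.card (KerT hH.pos F) = Nat.card (SymT hH.pos σ H) * Nat.card (SymT hH.pos σ H) := by
  obtain ⟨c, hc⟩ : ∃ c, σ c ≠ c := by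
    by_contra hh
    exact hne (RingHom.ext fun a => not_not.1 fun h' => hh ⟨a, h'⟩)
  obtain ⟨k, hk⟩ : ∃ k, k = σ c - c := ⟨_, rfl⟩
  have hk0 : k ≠ 0 := hk ▸ sub_ne_zero.2 hc
  have hks : σ k = -k := by rw [hk, map_sub, h2, neg_sub]
  rw [← Nat.card_prod]
  refine Nat.card_congr
    { toFun := fun a => (⟨a.1 + adj σ H a.1, a.2.add _ (hH.ker_adj a.2), by
          rw [hH.adj_add, hH.adj_adj h2, add_comm]⟩,
        ⟨c • a.1 + adj σ H (c • a.1), (a.2.smul _ c).add _ (hH.ker_adj (a.2.smul _ c)), by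
          rw [hH.adj_add, hH.adj_adj h2, add_comm]⟩)
      invFun := fun p => ⟨k⁻¹ • (σ c • p.1.1 + (-1 : F) • p.2.1),
        ((p.1.2.1.smul _ _).add _ (p.2.2.1.smul _ _)).smul _ _⟩
      left_inv := fun a => Subtype.ext ?_
      right_inv := fun p => ?_ }
  · show k⁻¹ • (σ c • (a.1 + adj σ H a.1) + (-1 : F) • (c • a.1 + adj σ H (c • a.1))) = a.1
    rw [hH.adj_smul, show σ c • (a.1 + adj σ H a.1) + (-1 : F) • (c • a.1 + σ c • adj σ H a.1) = k • a.1
      by rw [hk]; module, smul_smul, inv_mul_cancel₀ hk0, one_smul]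
  · have e : adj σ H (k⁻¹ • (σ c • p.1.1 + (-1 : F) • p.2.1)) =
        (-k⁻¹) • (c • p.1.1 + (-1 : F) • p.2.1) := by
      rw [hH.adj_smul, hH.adj_add, hH.adj_smul, hH.adj_smul, p.1.2.2, p.2.2.2, map_inv₀, hks, h2,
        map_neg, map_one, inv_neg]
    refine Prod.ext (Subtype.ext ?_) (Subtype.ext ?_)
    · show k⁻¹ • (σ c • p.1.1 + (-1 : F) • p.2.1) + adj σ H _ = p.1.1
      rw [e]
      calc k⁻¹ • (σ c • p.1.1 + (-1 : F) • p.2.1) + (-k⁻¹) • (c • p.1.1 + (-1 : F) • p.2.1)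
          = (k⁻¹ * (σ c - c)) • p.1.1 := by module
        _ = p.1.1 := by rw [← hk, inv_mul_cancel₀ hk0, one_smul]
    · show c • (k⁻¹ • (σ c • p.1.1 + (-1 : F) • p.2.1)) + adj σ H (c • _) = p.2.1
      rw [hH.adj_smul, e]
      calc c • k⁻¹ • (σ c • p.1.1 + (-1 : F) • p.2.1) + σ c • (-k⁻¹) • (c • p.1.1 + (-1 : F) • p.2.1)
          = (k⁻¹ * (σ c - c)) • p.2.1 := by module
        _ = p.2.1 := by rw [← hk, inv_mul_cancel₀ hk0, one_smul]

theorem card_ker_split (hH : InvForm σ d H) (h2 : ∀ x, σ (σ x) = x) {ε : F} (hε : ε + σ ε = 1) :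
    Nat.card (KerT hH.pos F) = Nat.card (SymT hH.pos σ H) * Nat.card (CentOne hH.pos σ H) := by
  classical
  choose sec hsec using fun s : SymT hH.pos σ H => hH.exists_root hε h2 s.1 s.2.1 s.2.2
  have hsu : ∀ s, IsUnit (sec s).det := fun s => by
    refine isUnit_iff_ne_zero.2 (det_ne_zero_of_blk hH.pos (hsec s).1.eq fun i => ?_)
    rw [(hsec s).2.1 i, Matrix.det_one]; exact one_ne_zero
  have hsq : ∀ a : Matrix (Idx d) (Idx d) F, InKer hH.pos a →
      InKer hH.pos (adj σ H (1 + a) * (1 + a) - 1) ∧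
        adj σ H (adj σ H (1 + a) * (1 + a) - 1) = adj σ H (1 + a) * (1 + a) - 1 := by
    intro a ha
    refine ⟨?_, ?_⟩
    · rw [hH.adj_add, hH.adj_one, show (1 + adj σ H a) * (1 + a) - 1 = a + adj σ H a + adj σ H a * a by
        noncomm_ring]
      exact (ha.add _ (hH.ker_adj ha)).add _ ((hH.ker_adj ha).mul_right _ ha.1)
    · rw [hH.adj_sub, hH.adj_mul, hH.adj_adj h2, hH.adj_one]
  let sq : KerT hH.pos F → SymT hH.pos σ H := fun a =>
    ⟨adj σ H (1 + a.1) * (1 + a.1) - 1, hsq a.1 a.2⟩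
  have hadd : ∀ a : KerT hH.pos F, adj σ H (sec (sq a)) * sec (sq a) = adj σ H (1 + a.1) * (1 + a.1) :=
    fun a => (hsec (sq a)).2.2.trans (add_sub_cancel _ _)
  have hk1 : ∀ a : KerT hH.pos F, Com ((1 + a.1) * (sec (sq a))⁻¹) ∧
      adj σ H ((1 + a.1) * (sec (sq a))⁻¹) * ((1 + a.1) * (sec (sq a))⁻¹) = 1 ∧
      ∀ i, blkM hH.pos ((1 + a.1) * (sec (sq a))⁻¹) i = 1 := by
    intro a
    have hc1 : Com (1 + a.1) := Commute.add_left Com.one a.2.1
    have hc2 := (hsec (sq a)).1.inv (hsu _)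
    refine ⟨Commute.mul_left hc1 hc2, ?_, fun i => ?_⟩
    · rw [hH.adj_mul, Matrix.mul_assoc, ← Matrix.mul_assoc (adj σ H (1 + a.1)), ← hadd,
        Matrix.mul_assoc (adj σ H (sec (sq a))), Matrix.mul_nonsing_inv _ (hsu _), Matrix.mul_one,
        ← hH.adj_mul, Matrix.mul_nonsing_inv _ (hsu _), hH.adj_one]
    · rw [blkM_mul _ hc1.eq hc2.eq, blkM_add, blkM_one, a.2.2 i,
        blk_eq_one_inv hH.pos (hsec _).1 (hsu _) (hsec _).2.1, add_zero, one_mul]
  have hinv : ∀ (s : SymT hH.pos σ H) (k : CentOne hH.pos σ H), InKer hH.pos (k.1 * sec s - 1) := by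
    intro s k
    refine ⟨Commute.sub_left (Commute.mul_left k.2.1 (hsec s).1) Com.one, fun i => ?_⟩
    rw [blkM_sub, blkM_mul _ k.2.1.eq (hsec s).1.eq, k.2.2.2, (hsec s).2.1, blkM_one, one_mul,
      sub_self]
  rw [← Nat.card_prod]
  refine Nat.card_congr
    { toFun := fun a => (sq a, ⟨_, hk1 a⟩)
      invFun := fun p => ⟨p.2.1 * sec p.1 - 1, hinv p.1 p.2⟩
      left_inv := fun a => Subtype.ext ?_
      right_inv := fun p => ?_ }
  · show (1 + a.1) * (sec (sq a))⁻¹ * sec (sq a) - 1 = a.1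
    rw [Matrix.mul_assoc, Matrix.nonsing_inv_mul _ (hsu _), Matrix.mul_one, add_sub_cancel_left]
  · have e : sq ⟨p.2.1 * sec p.1 - 1, hinv p.1 p.2⟩ = p.1 := Subtype.ext (by
      show adj σ H (1 + (p.2.1 * sec p.1 - 1)) * (1 + (p.2.1 * sec p.1 - 1)) - 1 = p.1.1
      rw [add_sub_cancel, hH.adj_mul, Matrix.mul_assoc, ← Matrix.mul_assoc (adj σ H p.2.1),
        p.2.2.2.1, Matrix.one_mul, (hsec p.1).2.2, add_sub_cancel_left])
    refine Prod.ext e (Subtype.ext ?_)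
    show (1 + (p.2.1 * sec p.1 - 1)) * (sec (sq _))⁻¹ = p.2.1
    rw [e, add_sub_cancel, Matrix.mul_assoc, Matrix.mul_nonsing_inv _ (hsu _), Matrix.mul_one]

/-- The block sizes in range. -/
abbrev Sizes (d : Fin t → ℕ) : Finset ℕ := Finset.range (Finset.univ.sup d + 1)

theorem mem_sizes (k : Fin t) : d k ∈ Sizes d :=
  Finset.mem_range.2 (Nat.lt_succ_of_le (Finset.le_sup (Finset.mem_univ k)))

theorem card_cent_split (hH : InvForm σ d H) (h2 : ∀ x, σ (σ x) = x) {ε : F} (hε : ε + σ ε = 1) :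
    Nat.card (Cent σ H) = Nat.card ((i : Sizes d) → Isom σ (formG H (i : ℕ))) *
      Nat.card (CentOne hH.pos σ H) := by
  classical
  let φ : Cent σ H → ((i : Sizes d) → Isom σ (formG H (i : ℕ))) := fun M i =>
    ⟨blkM hH.pos M.1 i, by
      rw [hH.blk_adj M.2.1 i, Matrix.mul_assoc, ← blkM_mul _ (hH.com_adj M.2.1).eq M.2.1.eq,
        M.2.2, blkM_one, Matrix.mul_one]⟩
  have key : ∀ (X : (i : Sizes d) → Isom σ (formG H (i : ℕ))) (i j : Sizes d) (e : i = j)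
      (k l : Fin t) (h1 : d k = i) (h2 : d l = i),
      (X i).1 ⟨k, h1⟩ ⟨l, h2⟩ = (X j).1 ⟨k, e ▸ h1⟩ ⟨l, e ▸ h2⟩ := by
    rintro X i j rfl k l h1 h2
    rfl
  have hlift : ∀ X, ∃ M : Cent σ H, φ M = X := by
    intro X
    let v : Par d → F := fun z =>
      if h : d z.1.1.1 = d z.1.2 then
        (X ⟨d z.1.1.1, mem_sizes _⟩).1 ⟨z.1.1.1, rfl⟩ ⟨z.1.2, h.symm⟩ else 0
    have hg : Com (mk d v) := commute_mk d v
    have hb : ∀ i : Sizes d, blkM hH.pos (mk d v) i = (X i).1 := by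
      intro i
      ext ⟨k, hk⟩ ⟨l, hl⟩
      simp only [blkM, mk, Matrix.of_apply, Nat.sub_self]
      rw [dif_pos ⟨le_rfl, by rw [zero_add, hk, hl]⟩]
      refine (dif_pos (hk.trans hl.symm)).trans ?_
      exact key X _ i (Subtype.ext hk) k l rfl (hl.trans hk.symm)
    have hY : ∀ i, blkM hH.pos (adj σ H (mk d v) * mk d v) i = 1 := by
      intro i
      rcases isEmpty_or_nonempty (Diag d i) with he | ⟨⟨k, hk⟩⟩
      · exact Matrix.ext fun a _ => he.elim a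
      rw [blkM_mul _ (hH.com_adj hg).eq hg.eq]
      have hi : i ∈ Sizes d := hk ▸ mem_sizes k
      have h1 := hH.blk_adj hg i
      have h3 := (X ⟨i, hi⟩).2
      rw [← hb ⟨i, hi⟩] at h3
      change cT σ (blkM hH.pos (mk d v) i) * formG H i * blkM hH.pos (mk d v) i = formG H i at h3
      rw [h1, Matrix.mul_assoc] at h3
      have := congrArg ((formG H i)⁻¹ * ·) h3
      simpa only [← Matrix.mul_assoc, Matrix.nonsing_inv_mul _
        (isUnit_iff_ne_zero.2 (formG_det_ne hH i)), Matrix.one_mul] using this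
    have ha : InKer hH.pos (adj σ H (mk d v) * mk d v - 1) :=
      ⟨Commute.sub_left (Commute.mul_left (hH.com_adj hg) hg) Com.one, fun i => by
        rw [blkM_sub, hY, blkM_one, sub_self]⟩
    obtain ⟨g, hgc, hgb, hge⟩ := hH.exists_root hε h2 _ ha (by
      rw [hH.adj_sub, hH.adj_mul, hH.adj_adj h2, hH.adj_one])
    rw [add_sub_cancel] at hge
    have hgu : IsUnit g.det := by
      refine isUnit_iff_ne_zero.2 (det_ne_zero_of_blk hH.pos hgc.eq fun i => ?_)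
      rw [hgb i, Matrix.det_one]; exact one_ne_zero
    refine ⟨⟨mk d v * g⁻¹, Commute.mul_left hg (hgc.inv hgu), ?_⟩, funext fun i => Subtype.ext ?_⟩
    · rw [hH.adj_mul, Matrix.mul_assoc, ← Matrix.mul_assoc (adj σ H (mk d v)), ← hge,
        Matrix.mul_assoc (adj σ H g), Matrix.mul_nonsing_inv _ hgu, Matrix.mul_one, ← hH.adj_mul,
        Matrix.mul_nonsing_inv _ hgu, hH.adj_one]
    · show blkM hH.pos (mk d v * g⁻¹) i = _
      rw [blkM_mul _ hg.eq (hgc.inv hgu).eq, blk_eq_one_inv hH.pos hgc hgu hgb, mul_one, hb]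
  choose sec hsec using hlift
  have hsu : ∀ X, IsUnit (sec X).1.det := fun X => by
    have := congrArg Matrix.det (sec X).2.2
    rw [Matrix.det_mul, Matrix.det_one] at this
    exact IsUnit.of_mul_eq_one _ ((mul_comm _ _).trans this)
  have hblk : ∀ (M : Cent σ H) (i : ℕ), blkM hH.pos (sec (φ M)).1 i = blkM hH.pos M.1 i := by
    intro M i
    rcases isEmpty_or_nonempty (Diag d i) with he | ⟨⟨k, hk⟩⟩
    · exact Matrix.ext fun a _ => he.elim a
    have hi : i ∈ Sizes d := hk ▸ mem_sizes k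
    exact congrArg Subtype.val (congrFun (hsec (φ M)) ⟨i, hi⟩)
  have hmul : ∀ A B : Matrix (Idx d) (Idx d) F, Com A → Com B → adj σ H A * A = 1 →
      adj σ H B * B = 1 → Com (A * B) ∧ adj σ H (A * B) * (A * B) = 1 := by
    intro A B hA hB hA1 hB1
    refine ⟨Commute.mul_left hA hB, ?_⟩
    rw [hH.adj_mul, Matrix.mul_assoc, ← Matrix.mul_assoc (adj σ H A), hA1, Matrix.one_mul, hB1]
  have hinv : ∀ X, adj σ H (sec X).1⁻¹ * (sec X).1⁻¹ = 1 := fun X => by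
    rw [hH.adj_inv (hsu X), ← Matrix.mul_inv_rev, mul_eq_one_comm.1 (sec X).2.2, inv_one]
  have hk1 : ∀ M : Cent σ H, Com (M.1 * (sec (φ M)).1⁻¹) ∧
      adj σ H (M.1 * (sec (φ M)).1⁻¹) * (M.1 * (sec (φ M)).1⁻¹) = 1 ∧
      ∀ i, blkM hH.pos (M.1 * (sec (φ M)).1⁻¹) i = 1 := by
    intro M
    have hc := (sec (φ M)).2.1.inv (hsu (φ M))
    refine ⟨(hmul _ _ M.2.1 hc M.2.2 (hinv _)).1, (hmul _ _ M.2.1 hc M.2.2 (hinv _)).2, fun i => ?_⟩
    rw [blkM_mul _ M.2.1.eq hc.eq, ← hblk, ← blkM_mul _ (sec (φ M)).2.1.eq hc.eq,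
      Matrix.mul_nonsing_inv _ (hsu _), blkM_one]
  rw [← Nat.card_prod]
  refine Nat.card_congr
    { toFun := fun M => (φ M, ⟨_, hk1 M⟩)
      invFun := fun p => ⟨p.2.1 * (sec p.1).1, hmul _ _ p.2.2.1 (sec p.1).2.1 p.2.2.2.1 (sec p.1).2.2⟩
      left_inv := fun M => Subtype.ext ?_
      right_inv := fun p => ?_ }
  · show M.1 * (sec (φ M)).1⁻¹ * (sec (φ M)).1 = M.1
    rw [Matrix.mul_assoc, Matrix.nonsing_inv_mul _ (hsu _), Matrix.mul_one]
  · have e : φ ⟨p.2.1 * (sec p.1).1, hmul _ _ p.2.2.1 (sec p.1).2.1 p.2.2.2.1 (sec p.1).2.2⟩ = p.1 := by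
      funext i
      refine Subtype.ext ?_
      show blkM hH.pos (p.2.1 * (sec p.1).1) i = _
      rw [blkM_mul _ p.2.2.1.eq (sec p.1).2.1.eq, p.2.2.2.2, one_mul]
      exact congrArg Subtype.val (congrFun (hsec p.1) i)
    refine Prod.ext e (Subtype.ext ?_)
    show p.2.1 * (sec p.1).1 * (sec (φ _)).1⁻¹ = p.2.1
    rw [e, Matrix.mul_assoc, Matrix.mul_nonsing_inv _ (hsu _), Matrix.mul_one]

theorem card_cent [Fintype F] {q : ℕ} (h : UFrob σ q) (hK : Fintype.card F = q ^ 2) (hq : q ≠ 0)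
    (hH : InvForm σ d H) :
    Nat.card (Cent σ H) = q ^ Nat.card (Rest d) * ∏ i ∈ Sizes d,
      Nat.card ↥(Cfsg.GU ((Finset.univ.filter fun k : Fin t => d k = i).card) F q) := by
  classical
  obtain ⟨ε, hε⟩ := exists_trace h
  have h1 := card_ker_sq hH h.invol h.ne
  have h2 := card_ker_split hH h.invol hε
  rw [card_ker hH.pos, hK, ← pow_mul, Nat.mul_comm 2, pow_mul, sq] at h1
  have hS : Nat.card (SymT hH.pos σ H) = q ^ Nat.card (Rest d) :=
    (Nat.mul_self_inj.1 h1).symm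
  rw [card_ker hH.pos, hK, ← pow_mul, Nat.mul_comm 2, pow_mul, sq, hS] at h2
  have hK1 : Nat.card (CentOne hH.pos σ H) = q ^ Nat.card (Rest d) :=
    (Nat.eq_of_mul_eq_mul_left (pow_pos (Nat.pos_of_ne_zero hq) _) h2).symm
  rw [card_cent_split hH h.invol hε, hK1, mul_comm, Nat.card_pi, ← Finset.prod_coe_sort (Sizes d)]
  congr 1
  refine Finset.prod_congr rfl fun i _ => ?_
  obtain ⟨δ, hδ, hδs⟩ := exists_skew h
  rw [card_isom h hq (c := δ ^ ((i : ℕ) - 1)) (pow_ne_zero _ hδ) ?_ (formG_det_ne hH i),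
    Fintype.card_subtype]
  rw [cT_smul, formG_cT hH, smul_smul, map_pow, hδs, ← mul_pow]
  norm_num

end CfsgLib.KnownB.UnitJordan
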