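import Cfsg.Agent.Lib.Classical.UnitaryTransv
import Cfsg.Agent.Lib.Classical.UnitaryOrder
import Mathlib

/-!
Conjugate transposes, and the isometry groups of hermitian matrices over a finite field.
-/

set_option autoImplicit false

namespace CfsgLib.KnownB.UnitJordan

open Matrix CfsgLib.Classical.Unitary

variable {F : Type*} [Field F] {σ : F →+* F}

/-- The conjugate transpose. -/
def cT (σ : F →+* F) {ι κ : Type*} (M : Matrix ι κ F) : Matrix κ ι F := (M.map σ).transpose

section algebra

variable {ι κ μ : Type*}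

theorem cT_apply (M : Matrix ι κ F) (i : κ) (j : ι) : cT σ M i j = σ (M j i) := rfl

theorem cT_mul [Fintype κ] (M : Matrix ι κ F) (N : Matrix κ μ F) :
    cT σ (M * N) = cT σ N * cT σ M := by
  rw [cT, cT, cT, Matrix.map_mul, Matrix.transpose_mul]

theorem cT_add (M N : Matrix ι κ F) : cT σ (M + N) = cT σ M + cT σ N := by
  ext i j; simp [cT_apply]

theorem cT_sub (M N : Matrix ι κ F) : cT σ (M - N) = cT σ M - cT σ N := by
  ext i j; simp [cT_apply]

theorem cT_smul (c : F) (M : Matrix ι κ F) : cT σ (c • M) = σ c • cT σ M := by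
  ext i j; simp [cT_apply]

theorem cT_zero : cT σ (0 : Matrix ι κ F) = 0 := by
  ext i j; simp [cT_apply]

theorem cT_one [DecidableEq ι] : cT σ (1 : Matrix ι ι F) = 1 := by
  ext i j
  simp only [cT_apply, Matrix.one_apply, apply_ite σ, map_one, map_zero, eq_comm]

theorem cT_cT (h2 : ∀ x, σ (σ x) = x) (M : Matrix ι κ F) : cT σ (cT σ M) = M := by
  ext i j; simp [cT_apply, h2]

theorem det_cT [Fintype ι] [DecidableEq ι] (M : Matrix ι ι F) : (cT σ M).det = σ M.det := by
  rw [cT, Matrix.det_transpose, σ.map_det]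
  rfl

theorem cT_submatrix {ι' κ' : Type*} (M : Matrix ι κ F) (f : ι' → ι) (g : κ' → κ) :
    cT σ (M.submatrix f g) = (cT σ M).submatrix g f := rfl

end algebra

variable {ι : Type} [Fintype ι] [DecidableEq ι] {q : ℕ}

/-- The isometries of a form matrix. -/
abbrev Isom (σ : F →+* F) (G : Matrix ι ι F) : Type _ := {X : Matrix ι ι F // cT σ X * G * X = G}

theorem exists_skew (h : UFrob σ q) : ∃ δ : F, δ ≠ 0 ∧ σ δ = -δ := by
  obtain ⟨a, ha⟩ : ∃ a, σ a ≠ a := by
    by_contra hh
    exact h.ne (RingHom.ext fun a => not_not.1 fun h' => hh ⟨a, h'⟩)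
  exact ⟨a - σ a, sub_ne_zero.2 (Ne.symm ha), by simp [h.invol]⟩

/-- A nondegenerate hermitian matrix is a form in an orthonormal basis. -/
theorem exists_normalise [Finite F] (h : UFrob σ q) {G : Matrix ι ι F} (hG : cT σ G = G)
    (hdet : G.det ≠ 0) :
    ∃ P : Matrix ι ι F, P.det ≠ 0 ∧ cT σ P * G * P = 1 := by
  let B : (ι → F) →ₛₗ[σ] (ι → F) →ₗ[F] F :=
    LinearMap.mk₂'ₛₗ σ (RingHom.id F) (fun u v => (σ ∘ u) ⬝ᵥ G *ᵥ v)
      (fun u u' v => by
        rw [← add_dotProduct]; congr 1; funext i; simp)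
      (fun c u v => by
        rw [← smul_dotProduct]; congr 1; funext i; simp)
      (fun u v v' => by rw [Matrix.mulVec_add, dotProduct_add])
      (fun c u v => by simp [Matrix.mulVec_smul, dotProduct_smul])
  have hB : ∀ u v, B u v = (σ ∘ u) ⬝ᵥ G *ᵥ v := fun u v => rfl
  have hS : B.IsSymm := ⟨fun u v => by
    rw [hB, hB]
    simp only [dotProduct, Matrix.mulVec, map_sum, map_mul, Finset.mul_sum, Function.comp, h.invol]
    rw [Finset.sum_comm]
    refine Finset.sum_congr rfl fun i _ => Finset.sum_congr rfl fun j _ => ?_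
    rw [← cT_apply (σ := σ) G i j, hG]
    ring⟩
  have hnd : B.Nondegenerate := by
    refine ⟨fun u hu => ?_, fun v hv => ?_⟩
    · have h0 : Matrix.vecMul (σ ∘ u) G = 0 := by
        funext j
        have := hu (Pi.single j 1)
        rw [hB, Matrix.dotProduct_mulVec] at this
        simpa using this
      have h1 := Matrix.eq_zero_of_vecMul_eq_zero hdet h0
      funext i
      exact (map_eq_zero σ).1 (congrFun h1 i)
    · refine Matrix.eq_zero_of_mulVec_eq_zero hdet (funext fun i => ?_)
      have := hv (Pi.single i 1)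
      rw [hB, show σ ∘ (Pi.single i (1 : F) : ι → F) = Pi.single i 1 from
        funext fun j => by rcases eq_or_ne j i with rfl | hj <;> simp [*]] at this
      simpa using this
  obtain ⟨b, hb⟩ := CfsgLib.Geometry.exists_orthonormal h.ne h.invol hS hnd
  let e : ι ≃ Fin (Module.finrank F (ι → F)) :=
    Fintype.equivFinOfCardEq (Module.finrank_pi F).symm
  refine ⟨Matrix.of fun i j => b (e j) i, ?_, ?_⟩
  · refine IsUnit.ne_zero ((Matrix.isUnit_iff_isUnit_det _).1 ?_)
    exact Matrix.linearIndependent_cols_iff_isUnit.1 (b.linearIndependent.comp e e.injective)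
  · ext i j
    rw [Matrix.one_apply, Matrix.mul_assoc]
    have := hb (e i) (e j)
    simp only [e.injective.eq_iff] at this
    rw [← this, hB]
    rfl

/-- The isometry group of a nondegenerate form, hermitian up to a scalar, is `GU`. -/
theorem card_isom [Finite F] (h : UFrob σ q) (hq : q ≠ 0) {G : Matrix ι ι F} {c : F} (hc : c ≠ 0)
    (hG : cT σ (c • G) = c • G) (hdet : G.det ≠ 0) :
    Nat.card (Isom σ G) = Nat.card ↥(Cfsg.GU (Fintype.card ι) F q) := by
  have hdet' : (c • G).det ≠ 0 := by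
    rw [Matrix.det_smul]; exact mul_ne_zero (pow_ne_zero _ hc) hdet
  obtain ⟨P, hP, hPG⟩ := exists_normalise h hG hdet'
  have hPu : IsUnit P.det := isUnit_iff_ne_zero.2 hP
  have hcT : IsUnit (cT σ P).det := by
    rw [det_cT]; exact hPu.map σ
  have hG' : c • G = (cT σ P)⁻¹ * P⁻¹ := by
    have h1 := congrArg (fun M => (cT σ P)⁻¹ * M * P⁻¹) hPG
    simp only [Matrix.mul_assoc, Matrix.mul_nonsing_inv P hPu, Matrix.mul_one] at h1
    rw [← Matrix.mul_assoc, Matrix.nonsing_inv_mul _ hcT, Matrix.one_mul] at h1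
    exact h1
  have hiso : ∀ X, cT σ X * G * X = G ↔ cT σ (P⁻¹ * X * P) * (P⁻¹ * X * P) = 1 := by
    intro X
    have h1 : cT σ (P⁻¹ * X * P) * (P⁻¹ * X * P) = cT σ P * (cT σ X * (c • G) * X) * P := by
      rw [cT_mul, cT_mul, hG']
      have h2 : cT σ (P⁻¹) = (cT σ P)⁻¹ := (Matrix.inv_eq_left_inv (by
        rw [← cT_mul, Matrix.mul_nonsing_inv P hPu, cT_one])).symm
      simp only [h2, Matrix.mul_assoc]
    rw [h1]
    constructor
    · intro hX
      rw [Matrix.mul_smul, Matrix.smul_mul, hX, hPG]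
    · intro hX
      have h3 := congrArg (fun M => (cT σ P)⁻¹ * M * P⁻¹) hX
      simp only [Matrix.mul_assoc, Matrix.mul_nonsing_inv P hPu, Matrix.mul_one] at h3
      rw [← Matrix.mul_assoc, Matrix.nonsing_inv_mul _ hcT, Matrix.one_mul, ← hG',
        ← Matrix.mul_assoc, Matrix.mul_smul, Matrix.smul_mul] at h3
      exact smul_right_injective _ hc h3
  -- conjugation by `P`
  have e1 : Isom σ G ≃ Isom σ (1 : Matrix ι ι F) :=
    { toFun := fun X => ⟨P⁻¹ * X.1 * P, by rw [Matrix.mul_one]; exact (hiso _).1 X.2⟩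
      invFun := fun Y => ⟨P * Y.1 * P⁻¹, (hiso _).2 (by
        rw [show P⁻¹ * (P * Y.1 * P⁻¹) * P = Y.1 by
          simp only [Matrix.mul_assoc, Matrix.nonsing_inv_mul P hPu, Matrix.mul_one]
          rw [← Matrix.mul_assoc, Matrix.nonsing_inv_mul P hPu, Matrix.one_mul]]
        simpa using Y.2)⟩
      left_inv := fun X => Subtype.ext (by
        show P * (P⁻¹ * X.1 * P) * P⁻¹ = X.1
        simp only [Matrix.mul_assoc, Matrix.mul_nonsing_inv P hPu, Matrix.mul_one]
        rw [← Matrix.mul_assoc, Matrix.mul_nonsing_inv P hPu, Matrix.one_mul])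
      right_inv := fun Y => Subtype.ext (by
        show P⁻¹ * (P * Y.1 * P⁻¹) * P = Y.1
        simp only [Matrix.mul_assoc, Matrix.nonsing_inv_mul P hPu, Matrix.mul_one]
        rw [← Matrix.mul_assoc, Matrix.nonsing_inv_mul P hPu, Matrix.one_mul]) }
  let f : ι ≃ Fin (Fintype.card ι) := Fintype.equivFin ι
  let R := Matrix.reindexAlgEquiv F F f
  have hR : ∀ M, cT σ (R M) = R (cT σ M) := fun M => rfl
  have hGU : ∀ g : GL (Fin (Fintype.card ι)) F, g ∈ Cfsg.GU (Fintype.card ι) F q ↔
      cT σ (g : Matrix (Fin (Fintype.card ι)) (Fin (Fintype.card ι)) F) * g.1 = 1 := by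
    intro g
    rw [CfsgLib.Classical.mem_GU_iff_cols h.pow hq]
    constructor
    · intro hh
      ext i j
      rw [Matrix.mul_apply, Matrix.one_apply]
      have := hh j i
      simp only [eq_comm (a := j) (b := i)] at this
      rw [← this]
      simp [Cfsg.hermForm, cT_apply, Matrix.col, h.pow, mul_comm]
    · intro hh i j
      have := congrFun (congrFun hh j) i
      rw [Matrix.mul_apply, Matrix.one_apply] at this
      simp only [eq_comm (a := j) (b := i)] at this
      rw [← this]
      simp [Cfsg.hermForm, cT_apply, Matrix.col, h.pow, mul_comm]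
  rw [Nat.card_congr e1]
  refine Nat.card_congr
    { toFun := fun Y => ⟨GeneralLinearGroup.mkOfDetNeZero (R Y.1) ?_, (hGU _).2 ?_⟩
      invFun := fun g => ⟨R.symm g.1.1, ?_⟩
      left_inv := fun Y => Subtype.ext (R.symm_apply_apply _)
      right_inv := fun g => Subtype.ext (Units.ext (R.apply_symm_apply _)) }
  · intro h0
    have h1 := congrArg Matrix.det (show cT σ (R Y.1) * R Y.1 = 1 by
      rw [hR, ← map_mul, show cT σ Y.1 * Y.1 = 1 by simpa using Y.2, map_one])
    rw [Matrix.det_mul, h0, mul_zero, Matrix.det_one] at h1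
    exact zero_ne_one h1
  · show cT σ (R Y.1) * R Y.1 = 1
    rw [hR, ← map_mul, show cT σ Y.1 * Y.1 = 1 by simpa using Y.2, map_one]
  · rw [Matrix.mul_one]
    apply R.injective
    rw [map_mul, map_one, ← hR, R.apply_symm_apply]
    exact (hGU _).1 g.2

end CfsgLib.KnownB.UnitJordan
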