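import Cfsg.Agent.Lib.KnownB.JordanCent
import Cfsg.Agent.Lib.KnownB.UnitJordan.Herm

/-!
A hermitian form preserved by a unipotent matrix in Jordan form: vanishing pattern, the forms on the
block multiplicity spaces, and the map from the commutant to the diagonal blocks.
-/

set_option autoImplicit false
set_option linter.unusedSectionVars false

namespace CfsgLib.KnownB.UnitJordan

open Matrix CfsgLib.KnownB.JordanCent CfsgLib.Classical.Unitary

universe u

variable {F : Type u} [Field F] {σ : F →+* F} {t : ℕ} {d : Fin t → ℕ}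

/-- A nondegenerate hermitian form invariant under the Jordan matrix. -/
structure InvForm (σ : F →+* F) (d : Fin t → ℕ) (H : Matrix (Idx d) (Idx d) F) : Prop where
  pos : ∀ k, 1 ≤ d k
  herm : cT σ H = H
  det_ne : H.det ≠ 0
  inv : cT σ (1 + shift d F) * H * (1 + shift d F) = H

/-- An entry, extended by zero. -/
def ent (M : Matrix (Idx d) (Idx d) F) (k : Fin t) (x : ℕ) (l : Fin t) (y : ℕ) : F :=
  if h : x < d k ∧ y < d l then M ⟨k, ⟨x, h.1⟩⟩ ⟨l, ⟨y, h.2⟩⟩ else 0

theorem ent_eq (M : Matrix (Idx d) (Idx d) F) {k l : Fin t} {x y : ℕ} (hx : x < d k) (hy : y < d l) :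
    ent M k x l y = M ⟨k, ⟨x, hx⟩⟩ ⟨l, ⟨y, hy⟩⟩ := dif_pos ⟨hx, hy⟩

theorem ent_of_le (M : Matrix (Idx d) (Idx d) F) {k l : Fin t} {x y : ℕ} (hy : d l ≤ y) :
    ent M k x l y = 0 := dif_neg fun h => by omega

theorem cT_shift_mul_apply (M : Matrix (Idx d) (Idx d) F) (p p' : Idx d) :
    (cT σ (shift d F) * M) p p' = ent M p.1 (p.2 + 1) p'.1 p'.2 := by
  rw [Matrix.mul_apply]
  by_cases h : (p.2 : ℕ) + 1 < d p.1
  · rw [Finset.sum_eq_single (⟨p.1, ⟨_, h⟩⟩ : Idx d)]
    · rw [ent_eq M h p'.2.isLt]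
      simp [cT_apply, shift]
    · rintro ⟨k, x⟩ _ hne
      rw [cT_apply, shift, Matrix.of_apply, if_neg, map_zero, zero_mul]
      rintro ⟨h1, h2⟩
      apply hne
      change k = p.1 at h1
      subst h1
      exact congrArg (Sigma.mk _) (Fin.ext h2)
    · simp
  · rw [ent, dif_neg (fun h' => h h'.1)]
    refine Finset.sum_eq_zero fun ⟨k, x⟩ _ => ?_
    rw [cT_apply, shift, Matrix.of_apply, if_neg, map_zero, zero_mul]
    rintro ⟨h1, h2⟩
    change k = p.1 at h1
    subst h1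
    change (x : ℕ) = p.2 + 1 at h2
    exact h (h2 ▸ x.isLt)

theorem mul_shift_ent (M : Matrix (Idx d) (Idx d) F) (p p' : Idx d) :
    (M * shift d F) p p' = ent M p.1 p.2 p'.1 (p'.2 + 1) := by
  rw [mul_shift_apply]
  by_cases h : (p'.2 : ℕ) + 1 < d p'.1
  · rw [dif_pos h, ent_eq M p.2.isLt h]
  · rw [dif_neg h, ent, dif_neg (fun h' => h h'.2)]

namespace InvForm

variable {H : Matrix (Idx d) (Idx d) F}

theorem skew_eq (hH : InvForm σ d H) :
    cT σ (shift d F) * H * (1 + shift d F) = -(H * shift d F) := by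
  have h := hH.inv
  rw [cT_add, cT_one, add_mul, add_mul, Matrix.one_mul, Matrix.mul_add, Matrix.mul_one] at h
  calc cT σ (shift d F) * H * (1 + shift d F)
      = (H + H * shift d F + cT σ (shift d F) * H * (1 + shift d F)) - (H + H * shift d F) := by abel
    _ = H - (H + H * shift d F) := by rw [h]
    _ = -(H * shift d F) := by abel

theorem rec_eq (hH : InvForm σ d H) {k l : Fin t} {x y : ℕ} (hx : x < d k) (hy : y < d l) :
    ent H k (x + 1) l y + ent H k (x + 1) l (y + 1) = -ent H k x l (y + 1) := by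
  have h := congrFun (congrFun hH.skew_eq ⟨k, ⟨x, hx⟩⟩) ⟨l, ⟨y, hy⟩⟩
  rw [Matrix.mul_add, Matrix.mul_one, Matrix.add_apply, Matrix.neg_apply, mul_shift_ent,
    mul_shift_ent] at h
  simp only [cT_shift_mul_apply] at h
  rw [← h]
  congr 1
  by_cases h1 : y + 1 < d l
  · rw [ent_eq (cT σ (shift d F) * H) hx h1, cT_shift_mul_apply]
  · rw [ent, dif_neg (fun h' => h1 h'.2), ent, dif_neg (fun h' => h1 h'.2)]

theorem vanish (hH : InvForm σ d H) (k l : Fin t) :
    ∀ x y, d l ≤ x + y → ent H k x l y = 0 := by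
  intro x
  induction x with
  | zero => exact fun y hy => ent_of_le H (by omega)
  | succ x ih =>
    suffices ∀ j y, d l ≤ y + j → d l ≤ x + 1 + y → ent H k (x + 1) l y = 0 from
      fun y hy => this (d l) y (by omega) hy
    intro j
    induction j with
    | zero => exact fun y hy _ => ent_of_le H (by omega)
    | succ j ihj =>
      intro y hy hxy
      by_cases h : x + 1 < d k ∧ y < d l
      · have h1 := hH.rec_eq (show x < d k by omega) h.2
        rw [ihj (y + 1) (by omega) (by omega), ih (y + 1) (by omega)] at h1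
        simpa using h1
      · exact dif_neg h

theorem ent_swap (hH : InvForm σ d H) (k l : Fin t) (x y : ℕ) :
    σ (ent H l y k x) = ent H k x l y := by
  by_cases h : x < d k ∧ y < d l
  · rw [ent_eq H h.1 h.2, ent_eq H h.2 h.1, ← cT_apply (σ := σ) H, hH.herm]
  · rw [ent, dif_neg (fun h' => h ⟨h'.2, h'.1⟩), ent, dif_neg h, map_zero]

theorem vanish' (hH : InvForm σ d H) {k l : Fin t} {x y : ℕ} (h : d k ≤ x + y) :
    ent H k x l y = 0 := by
  rw [← hH.ent_swap, hH.vanish l k y x (by omega), map_zero]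

theorem antidiag (hH : InvForm σ d H) {k l : Fin t} {i : ℕ} (hk : d k = i) (hl : d l = i) :
    ∀ x < i, ent H k x l (i - 1 - x) = (-1) ^ x * ent H k 0 l (i - 1) := by
  intro x hx
  induction x with
  | zero => simp
  | succ x ih =>
    have h1 := hH.rec_eq (k := k) (l := l) (x := x) (y := i - 1 - (x + 1)) (by omega) (by omega)
    rw [show i - 1 - (x + 1) + 1 = i - 1 - x by omega, hH.vanish k l (x + 1) (i - 1 - x) (by omega),
      add_zero, ih (by omega)] at h1
    rw [h1, pow_succ]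
    ring

end InvForm

/-- The diagonal block of a matrix. -/
def blkM (hd : ∀ k, 1 ≤ d k) (M : Matrix (Idx d) (Idx d) F) (i : ℕ) :
    Matrix (Diag d i) (Diag d i) F :=
  Matrix.of fun k l => M ⟨k.1, ⟨0, hd k.1⟩⟩ ⟨l.1, ⟨0, hd l.1⟩⟩

/-- The form on the multiplicity space of block size `i`. -/
def formG (H : Matrix (Idx d) (Idx d) F) (i : ℕ) : Matrix (Diag d i) (Diag d i) F :=
  Matrix.of fun k l => ent H k.1 0 l.1 (i - 1)

theorem formG_cT {H : Matrix (Idx d) (Idx d) F} (hH : InvForm σ d H) (i : ℕ) :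
    cT σ (formG H i) = (-1 : F) ^ (i - 1) • formG H i := by
  ext ⟨k, hk⟩ ⟨l, hl⟩
  rw [cT_apply, Matrix.smul_apply, smul_eq_mul]
  show σ (ent H l 0 k (i - 1)) = _ * ent H k 0 l (i - 1)
  rw [hH.ent_swap]
  have := hH.pos k
  have h := hH.antidiag hk hl (i - 1) (by omega)
  rwa [Nat.sub_self] at h

theorem formG_det_ne {H : Matrix (Idx d) (Idx d) F} (hH : InvForm σ d H) (i : ℕ) :
    (formG H i).det ≠ 0 := by
  classical
  -- pairings of generators with socle vectors
  let Bm : Matrix (Fin t) (Fin t) F := Matrix.of fun k l => ent H k 0 l (d l - 1)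
  have hB : Bm.det ≠ 0 := by
    intro h0
    obtain ⟨c, hc, hBc⟩ := Matrix.exists_mulVec_eq_zero_iff.2 h0
    let w : Idx d → F := fun p => if (p.2 : ℕ) = d p.1 - 1 then c p.1 else 0
    have hw : H *ᵥ w = 0 := by
      funext ⟨k, x⟩
      show ∑ p, H ⟨k, x⟩ p * w p = 0
      rw [Fintype.sum_sigma]
      rcases Nat.eq_zero_or_pos (x : ℕ) with hx | hx
      · refine Eq.trans ?_ (congrFun hBc k)
        refine Finset.sum_congr rfl fun l _ => ?_
        have := hH.pos l
        rw [Finset.sum_eq_single (⟨d l - 1, by omega⟩ : Fin (d l))]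
        · simp only [w, if_pos, Bm, Matrix.of_apply]
          rw [ent_eq H (hH.pos k) (show d l - 1 < d l by omega)]
          congr 3
          exact Fin.ext hx
        · intro y _ hy
          simp only [w]
          rw [if_neg (fun e => hy (Fin.ext e)), mul_zero]
        · simp
      · refine Finset.sum_eq_zero fun l _ => Finset.sum_eq_zero fun y _ => ?_
        simp only [w]
        split_ifs with hy
        · have := hH.pos l
          rw [← ent_eq H x.isLt y.isLt, hH.vanish k l _ _ (by omega), zero_mul]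
        · exact mul_zero _
    refine hc (funext fun l => ?_)
    have := congrFun (Matrix.eq_zero_of_mulVec_eq_zero hH.det_ne hw)
      ⟨l, ⟨d l - 1, by have := hH.pos l; omega⟩⟩
    simpa [w] using this
  have htri : Bm.transpose.BlockTriangular d := by
    intro k l hkl
    show ent H l 0 k (d k - 1) = 0
    exact hH.vanish' (by omega)
  rcases isEmpty_or_nonempty (Diag d i) with he | ⟨⟨k0, hk0⟩⟩
  · rw [Matrix.det_isEmpty]; exact one_ne_zero
  rw [← Matrix.det_transpose, htri.det, Finset.prod_ne_zero_iff] at hB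
  have h := hB i (Finset.mem_image.2 ⟨k0, Finset.mem_univ _, hk0⟩)
  rw [← Matrix.det_transpose]
  refine (congrArg Matrix.det ?_).trans_ne h
  ext ⟨k, hk⟩ ⟨l, hl⟩
  show ent H l 0 k (i - 1) = ent H l 0 k (d k - 1)
  rw [hk]

/-- The adjoint identity read on the blocks. -/
theorem blk_adjoint {H : Matrix (Idx d) (Idx d) F} (hH : InvForm σ d H)
    {M N : Matrix (Idx d) (Idx d) F} (hM : M * shift d F = shift d F * M)
    (hN : N * shift d F = shift d F * N) (hMN : cT σ M * H = H * N) (i : ℕ) :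
    cT σ (blkM hH.pos M i) * formG H i = formG H i * blkM hH.pos N i := by
  classical
  ext ⟨l, hl⟩ ⟨l', hl'⟩
  have hi : 1 ≤ i := hl ▸ hH.pos l
  have h := congrFun (congrFun hMN ⟨l, ⟨0, hH.pos l⟩⟩) ⟨l', ⟨i - 1, by omega⟩⟩
  rw [Matrix.mul_apply, Matrix.mul_apply, Fintype.sum_sigma, Fintype.sum_sigma] at h
  rw [Matrix.mul_apply, Matrix.mul_apply]
  have eL : ∀ k : Fin t, ∑ x : Fin (d k),
      cT σ M ⟨l, ⟨0, hH.pos l⟩⟩ ⟨k, x⟩ * H ⟨k, x⟩ ⟨l', ⟨i - 1, by omega⟩⟩ =
        if d k = i then σ (M ⟨k, ⟨0, hH.pos k⟩⟩ ⟨l, ⟨0, hH.pos l⟩⟩) * ent H k 0 l' (i - 1) else 0 := by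
    intro k
    rw [Finset.sum_eq_single (⟨0, hH.pos k⟩ : Fin (d k))]
    · rw [cT_apply, ← ent_eq H (hH.pos k) (show i - 1 < d l' by omega)]
      split_ifs with hk
      · rfl
      · rcases lt_or_gt_of_ne hk with hk' | hk'
        · rw [hH.vanish' (x := 0) (y := i - 1) (by omega), mul_zero]
        · rw [kill d hH.pos hM ⟨k, ⟨0, hH.pos k⟩⟩ l (by show 0 + d l < d k; omega), map_zero, zero_mul]
    · intro x _ hx
      have hx' : (x : ℕ) ≠ 0 := fun e => hx (Fin.ext e)
      rw [← ent_eq H x.isLt (show i - 1 < d l' by omega), hH.vanish k l' _ _ (by omega), mul_zero]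
    · simp
  have eR : ∀ k : Fin t, ∑ x : Fin (d k),
      H ⟨l, ⟨0, hH.pos l⟩⟩ ⟨k, x⟩ * N ⟨k, x⟩ ⟨l', ⟨i - 1, by omega⟩⟩ =
        if d k = i then ent H l 0 k (i - 1) * N ⟨k, ⟨0, hH.pos k⟩⟩ ⟨l', ⟨0, hH.pos l'⟩⟩ else 0 := by
    intro k
    have := hH.pos k
    rw [Finset.sum_eq_single (⟨d k - 1, by omega⟩ : Fin (d k))]
    · rw [entry_zero d hH.pos hN (i - 1) l' (by omega), ← ent_eq H (hH.pos l) (show d k - 1 < d k by omega)]
      split_ifs with h1 h2 h2
      · exact congr_arg₂ (· * ·) (congrArg (ent H l 0 k) (show d k - 1 = i - 1 by omega))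
          (congrArg (fun a => N ⟨k, a⟩ ⟨l', ⟨0, hH.pos l'⟩⟩)
            (Fin.ext (by show d k - 1 - (i - 1) = 0; omega)))
      · rcases lt_or_gt_of_ne h2 with hk' | hk'
        · change i - 1 ≤ d k - 1 at h1
          omega
        · rw [hH.vanish' (x := 0) (y := d k - 1) (by omega), zero_mul]
      · change ¬ i - 1 ≤ d k - 1 at h1
        omega
      · exact mul_zero _
    · intro x _ hx
      have hx' : (x : ℕ) ≠ d k - 1 := fun e => hx (Fin.ext e)
      have := x.isLt
      rw [entry_zero d hH.pos hN (i - 1) l' (by omega)]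
      split_ifs with h1
      · change i - 1 ≤ (x : ℕ) at h1
        rw [kill d hH.pos hN _ l' (by show (x : ℕ) - (i - 1) + d l' < d k; omega), mul_zero]
      · exact mul_zero _
    · simp
  simp only [eL, eR, ← Finset.sum_filter] at h
  exact (Finset.sum_subtype _ (by simp)
      (fun k => σ (M ⟨k, ⟨0, hH.pos k⟩⟩ ⟨l, ⟨0, hH.pos l⟩⟩) * ent H k 0 l' (i - 1))).symm.trans
    (h.trans (Finset.sum_subtype _ (by simp)
      (fun k => ent H l 0 k (i - 1) * N ⟨k, ⟨0, hH.pos k⟩⟩ ⟨l', ⟨0, hH.pos l'⟩⟩)))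

theorem blkM_mul (hd : ∀ k, 1 ≤ d k) {M N : Matrix (Idx d) (Idx d) F}
    (hM : M * shift d F = shift d F * M) (hN : N * shift d F = shift d F * N) (i : ℕ) :
    blkM hd (M * N) i = blkM hd M i * blkM hd N i := by
  classical
  ext ⟨k, hk⟩ ⟨l, hl⟩
  show (M * N) _ _ = _
  rw [Matrix.mul_apply, Fintype.sum_sigma, Matrix.mul_apply]
  have e : ∀ j : Fin t, ∑ x : Fin (d j),
      M ⟨k, ⟨0, hd k⟩⟩ ⟨j, x⟩ * N ⟨j, x⟩ ⟨l, ⟨0, hd l⟩⟩ =
        if d j = i then M ⟨k, ⟨0, hd k⟩⟩ ⟨j, ⟨0, hd j⟩⟩ * N ⟨j, ⟨0, hd j⟩⟩ ⟨l, ⟨0, hd l⟩⟩ else 0 := by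
    intro j
    rw [Finset.sum_eq_single (⟨0, hd j⟩ : Fin (d j))]
    · split_ifs with hj
      · rfl
      · rcases lt_or_gt_of_ne hj with h' | h'
        · rw [kill d hd hM ⟨k, ⟨0, hd k⟩⟩ j (by show 0 + d j < d k; omega), zero_mul]
        · rw [kill d hd hN ⟨j, ⟨0, hd j⟩⟩ l (by show 0 + d l < d j; omega), mul_zero]
    · intro x _ hx
      have hx' : (x : ℕ) ≠ 0 := fun e => hx (Fin.ext e)
      rw [entry_zero d hd hM x j x.isLt, if_neg (by show ¬ (x : ℕ) ≤ 0; omega), zero_mul]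
    · simp
  simp only [e, ← Finset.sum_filter]
  exact Finset.sum_subtype (p := fun j => d j = i) _ (by simp) _

theorem blkM_one (hd : ∀ k, 1 ≤ d k) (i : ℕ) :
    blkM hd (1 : Matrix (Idx d) (Idx d) F) i = 1 := by
  classical
  ext k l
  show (1 : Matrix (Idx d) (Idx d) F) _ _ = _
  simp only [Matrix.one_apply, Sigma.mk.injEq, Subtype.ext_iff]
  by_cases h : k.1 = l.1
  · rw [if_pos h, if_pos]
    exact ⟨h, (Fin.heq_ext_iff (congrArg d h)).2 rfl⟩
  · rw [if_neg h, if_neg (fun hh => h hh.1)]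

theorem blkM_add (hd : ∀ k, 1 ≤ d k) (M N : Matrix (Idx d) (Idx d) F) (i : ℕ) :
    blkM hd (M + N) i = blkM hd M i + blkM hd N i := rfl

theorem blkM_sub (hd : ∀ k, 1 ≤ d k) (M N : Matrix (Idx d) (Idx d) F) (i : ℕ) :
    blkM hd (M - N) i = blkM hd M i - blkM hd N i := rfl

theorem blkM_smul (hd : ∀ k, 1 ≤ d k) (c : F) (M : Matrix (Idx d) (Idx d) F) (i : ℕ) :
    blkM hd (c • M) i = c • blkM hd M i := rfl

theorem det_ne_zero_of_blk (hd : ∀ k, 1 ≤ d k) {M : Matrix (Idx d) (Idx d) F}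
    (hM : M * shift d F = shift d F * M) (h : ∀ i, (blkM hd M i).det ≠ 0) : M.det ≠ 0 := by
  have hv : mk d (commutant d hd ⟨M, hM⟩) = M :=
    congrArg Subtype.val ((commutant d hd).symm_apply_apply ⟨M, hM⟩)
  rw [← hv, det_mk_ne_zero_iff d hd]
  exact h

end CfsgLib.KnownB.UnitJordan
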