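import Cfsg.Agent.Lib.KnownB.UnitJordan.Form

/-!
The adjoint on the commutant of a unipotent Jordan matrix, and solving `g* g = 1 + a` in the kernel
of the reduction to the diagonal blocks.
-/

set_option autoImplicit false
set_option linter.unusedSectionVars false

namespace CfsgLib.KnownB.UnitJordan

open Matrix CfsgLib.KnownB.JordanCent CfsgLib.Classical.Unitary

universe u

variable {F : Type u} [Field F] {σ : F →+* F} {t : ℕ} {d : Fin t → ℕ}

/-- Commuting with the shift. -/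
def Com (M : Matrix (Idx d) (Idx d) F) : Prop := Commute M (shift d F)

theorem Com.one : Com (1 : Matrix (Idx d) (Idx d) F) := Commute.one_left _

theorem Com.inv {M : Matrix (Idx d) (Idx d) F} (h : Com M) (hu : IsUnit M.det) : Com M⁻¹ := by
  show M⁻¹ * shift d F = shift d F * M⁻¹
  calc M⁻¹ * shift d F = M⁻¹ * (shift d F * M) * M⁻¹ := by
        rw [Matrix.mul_assoc, Matrix.mul_assoc, Matrix.mul_nonsing_inv M hu, Matrix.mul_one]
    _ = M⁻¹ * (M * shift d F) * M⁻¹ := by rw [h.eq]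
    _ = shift d F * M⁻¹ := by
        rw [← Matrix.mul_assoc M⁻¹, Matrix.nonsing_inv_mul M hu, Matrix.one_mul]

/-- The adjoint with respect to the form. -/
noncomputable def adj (σ : F →+* F) (H M : Matrix (Idx d) (Idx d) F) : Matrix (Idx d) (Idx d) F :=
  H⁻¹ * cT σ M * H

/-- The kernel of the reduction to the diagonal blocks. -/
def InKer (hd : ∀ k, 1 ≤ d k) (a : Matrix (Idx d) (Idx d) F) : Prop :=
  Com a ∧ ∀ i, blkM hd a i = 0

namespace InvForm

variable {H : Matrix (Idx d) (Idx d) F} (hH : InvForm σ d H)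
include hH

theorem unit_det : IsUnit H.det := isUnit_iff_ne_zero.2 hH.det_ne

theorem mul_adj (M : Matrix (Idx d) (Idx d) F) : H * adj σ H M = cT σ M * H := by
  rw [adj, ← Matrix.mul_assoc, ← Matrix.mul_assoc, Matrix.mul_nonsing_inv H hH.unit_det,
    Matrix.one_mul]

theorem adj_eq_iff {M N : Matrix (Idx d) (Idx d) F} : adj σ H M = N ↔ cT σ M * H = H * N := by
  rw [← hH.mul_adj]
  refine ⟨fun h => by rw [h], fun h => ?_⟩
  have := congrArg (H⁻¹ * ·) h
  simpa only [← Matrix.mul_assoc, Matrix.nonsing_inv_mul H hH.unit_det, Matrix.one_mul] using this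

theorem adj_one : adj σ H 1 = 1 := by
  rw [hH.adj_eq_iff, cT_one, Matrix.one_mul, Matrix.mul_one]

theorem adj_add (M N : Matrix (Idx d) (Idx d) F) :
    adj σ H (M + N) = adj σ H M + adj σ H N := by
  rw [adj, adj, adj, cT_add, Matrix.mul_add, Matrix.add_mul]

theorem adj_sub (M N : Matrix (Idx d) (Idx d) F) :
    adj σ H (M - N) = adj σ H M - adj σ H N := by
  rw [adj, adj, adj, cT_sub, Matrix.mul_sub, Matrix.sub_mul]

theorem adj_smul (c : F) (M : Matrix (Idx d) (Idx d) F) :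
    adj σ H (c • M) = σ c • adj σ H M := by
  rw [adj, adj, cT_smul, Matrix.mul_smul, Matrix.smul_mul]

theorem adj_mul (M N : Matrix (Idx d) (Idx d) F) : adj σ H (M * N) = adj σ H N * adj σ H M := by
  rw [hH.adj_eq_iff, cT_mul, Matrix.mul_assoc, ← hH.mul_adj, ← Matrix.mul_assoc, ← hH.mul_adj,
    Matrix.mul_assoc]

theorem adj_adj (h2 : ∀ x, σ (σ x) = x) (M : Matrix (Idx d) (Idx d) F) :
    adj σ H (adj σ H M) = M := by
  have h := congrArg (cT σ) (hH.mul_adj M)
  rw [cT_mul, cT_mul, cT_cT h2, hH.herm] at h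
  rwa [hH.adj_eq_iff]

theorem adj_inv {M : Matrix (Idx d) (Idx d) F} (hu : IsUnit M.det) :
    adj σ H M⁻¹ = (adj σ H M)⁻¹ := by
  refine (Matrix.inv_eq_right_inv ?_).symm
  rw [← hH.adj_mul, Matrix.nonsing_inv_mul M hu, hH.adj_one]

theorem com_adj {M : Matrix (Idx d) (Idx d) F} (hM : Com M) : Com (adj σ H M) := by
  obtain ⟨J, hJ⟩ : ∃ J : Matrix (Idx d) (Idx d) F, J = 1 + shift d F := ⟨_, rfl⟩
  have h1 : adj σ H J * J = 1 := by
    rw [adj, Matrix.mul_assoc, Matrix.mul_assoc, ← Matrix.mul_assoc (cT σ J), hJ, hH.inv,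
      Matrix.nonsing_inv_mul H hH.unit_det]
  have h2 : J * adj σ H J = 1 := mul_eq_one_comm.1 h1
  have h3 : M * J = J * M := by rw [hJ]; exact ((Commute.one_right M).add_right hM).eq
  have h4 := congrArg (adj σ H) h3
  rw [hH.adj_mul, hH.adj_mul] at h4
  have h5 : adj σ H M * J = J * adj σ H M := by
    calc adj σ H M * J = J * adj σ H J * adj σ H M * J := by rw [h2, Matrix.one_mul]
      _ = J * (adj σ H M * adj σ H J) * J := by rw [Matrix.mul_assoc J, h4]
      _ = J * adj σ H M * (adj σ H J * J) := by simp only [Matrix.mul_assoc]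
      _ = J * adj σ H M := by rw [h1, Matrix.mul_one]
  show adj σ H M * shift d F = shift d F * adj σ H M
  rw [hJ, Matrix.mul_add, Matrix.add_mul, Matrix.mul_one, Matrix.one_mul] at h5
  exact add_left_cancel h5

theorem blk_adj {M : Matrix (Idx d) (Idx d) F} (hM : Com M) (i : ℕ) :
    cT σ (blkM hH.pos M i) * formG H i = formG H i * blkM hH.pos (adj σ H M) i :=
  blk_adjoint hH hM.eq (hH.com_adj hM).eq (hH.mul_adj M).symm i

theorem ker_adj {a : Matrix (Idx d) (Idx d) F} (ha : InKer hH.pos a) :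
    InKer hH.pos (adj σ H a) := by
  refine ⟨hH.com_adj ha.1, fun i => ?_⟩
  classical
  have h := hH.blk_adj ha.1 i
  rw [ha.2 i, cT_zero, Matrix.zero_mul] at h
  have := congrArg ((formG H i)⁻¹ * ·) h
  simpa only [← Matrix.mul_assoc, Matrix.nonsing_inv_mul _
    (isUnit_iff_ne_zero.2 (formG_det_ne hH i)), Matrix.one_mul, Matrix.mul_zero] using this.symm

end InvForm

theorem InKer.isNilpotent (hd : ∀ k, 1 ≤ d k) {a : Matrix (Idx d) (Idx d) F} (ha : InKer hd a) :
    IsNilpotent a := by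
  classical
  obtain ⟨D, hD⟩ : ∃ D, D = Finset.univ.sup d := ⟨_, rfl⟩
  have hle : ∀ k, d k ≤ D := fun k => hD ▸ Finset.le_sup (Finset.mem_univ k)
  let w : Idx d → ℕ := fun p => (D + 1) * p.2 + (D - d p.1)
  have step : ∀ p p' : Idx d, a p p' ≠ 0 → w p' < w p := by
    rintro ⟨k, x⟩ ⟨l, b⟩ h
    have hk := hle k
    have hl := hle l
    have he : a ⟨k, x⟩ ⟨l, b⟩ = _ := entry_zero d hd ha.1.eq b l b.isLt ⟨k, x⟩
    rw [he] at h
    split_ifs at h with hb
    · change (b : ℕ) ≤ x at hb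
      show (D + 1) * (b : ℕ) + (D - d l) < (D + 1) * (x : ℕ) + (D - d k)
      rcases Nat.lt_or_eq_of_le hb with hlt | heq
      · have : (D + 1) * (b : ℕ) + (D + 1) ≤ (D + 1) * (x : ℕ) := by
          rw [← Nat.mul_succ]; exact Nat.mul_le_mul_left _ hlt
        omega
      · rcases lt_trichotomy (d k) (d l) with h1 | h1 | h1
        · rw [heq]; omega
        · refine absurd ?_ h
          refine Eq.trans ?_ (congrFun (congrFun (ha.2 (d k)) ⟨k, rfl⟩) ⟨l, h1.symm⟩)
          exact congrArg (fun z => a ⟨k, z⟩ ⟨l, ⟨0, hd l⟩⟩)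
            (Fin.ext (show (x : ℕ) - b = 0 by omega))
        · exact absurd (kill d hd ha.1.eq _ l (show (x : ℕ) - b + d l < d k by omega)) h
    · exact absurd rfl h
  have key : ∀ n (p p' : Idx d), (a ^ n) p p' ≠ 0 → w p' + n ≤ w p := by
    intro n
    induction n with
    | zero =>
      intro p p' h
      rw [pow_zero, Matrix.one_apply] at h
      split_ifs at h with e
      · rw [e]; rfl
      · exact absurd rfl h
    | succ n ih =>
      intro p p' h
      rw [pow_succ', Matrix.mul_apply] at h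
      obtain ⟨r, -, hr⟩ := Finset.exists_ne_zero_of_sum_ne_zero h
      have h1 := step p r (left_ne_zero_of_mul hr)
      have h2 := ih r p' (right_ne_zero_of_mul hr)
      omega
  refine ⟨(Finset.univ.sup w) + 1, ?_⟩
  ext p p'
  by_contra h
  have h1 := key _ p p' h
  have h2 : w p ≤ Finset.univ.sup w := Finset.le_sup (Finset.mem_univ p)
  omega

/-- Invertibility of `1 + a` for `a` in the kernel. -/
theorem InKer.isUnit_det (hd : ∀ k, 1 ≤ d k) {a : Matrix (Idx d) (Idx d) F} (ha : InKer hd a) :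
    IsUnit (1 + a).det :=
  (Matrix.isUnit_iff_isUnit_det _).1 (ha.isNilpotent hd).isUnit_one_add

theorem InKer.add (hd : ∀ k, 1 ≤ d k) {a b : Matrix (Idx d) (Idx d) F} (ha : InKer hd a)
    (hb : InKer hd b) : InKer hd (a + b) :=
  ⟨Commute.add_left ha.1 hb.1, fun i => by rw [blkM_add, ha.2, hb.2, add_zero]⟩

theorem InKer.smul (hd : ∀ k, 1 ≤ d k) (c : F) {a : Matrix (Idx d) (Idx d) F} (ha : InKer hd a) :
    InKer hd (c • a) :=
  ⟨Commute.smul_left ha.1 c, fun i => by rw [blkM_smul, ha.2, smul_zero]⟩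

theorem InKer.mul_right (hd : ∀ k, 1 ≤ d k) {a b : Matrix (Idx d) (Idx d) F} (ha : InKer hd a)
    (hb : Com b) : InKer hd (a * b) :=
  ⟨Commute.mul_left ha.1 hb, fun i => by rw [blkM_mul hd ha.1.eq hb.eq, ha.2, zero_mul]⟩

theorem blk_eq_one_inv (hd : ∀ k, 1 ≤ d k) {g : Matrix (Idx d) (Idx d) F} (hg : Com g)
    (hu : IsUnit g.det) (h : ∀ i, blkM hd g i = 1) (i : ℕ) : blkM hd g⁻¹ i = 1 := by
  classical
  have := blkM_mul hd hg.eq (hg.inv hu).eq i
  rw [Matrix.mul_nonsing_inv g hu, blkM_one, h, one_mul] at this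
  exact this.symm

/-- Lifting: `1 + a` is `g* g` with `g ≡ 1`. -/
theorem InvForm.exists_root {H : Matrix (Idx d) (Idx d) F} (hH : InvForm σ d H) {ε : F}
    (hε : ε + σ ε = 1) (h2 : ∀ x, σ (σ x) = x) (a : Matrix (Idx d) (Idx d) F)
    (ha : InKer hH.pos a) (hs : adj σ H a = a) :
    ∃ g, Com g ∧ (∀ i, blkM hH.pos g i = 1) ∧ adj σ H g * g = 1 + a := by
  classical
  obtain ⟨m, hm⟩ := ha.isNilpotent hH.pos
  induction m using Nat.strong_induction_on generalizing a with
  | _ m ih =>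
  rcases lt_or_ge m 2 with hm2 | hm2
  · have h0 : a = 0 := by
      have h := pow_eq_zero_of_le (show m ≤ 1 by omega) hm
      rwa [pow_one] at h
    subst h0
    exact ⟨1, Com.one, fun i => blkM_one _ _, by rw [hH.adj_one, Matrix.one_mul, add_zero]⟩
  obtain ⟨g1, hg1⟩ : ∃ g1, g1 = 1 + ε • a := ⟨_, rfl⟩
  have hadj : adj σ H g1 = 1 + σ ε • a := by
    rw [hg1, hH.adj_add, hH.adj_one, hH.adj_smul, hs]
  obtain ⟨c, hc⟩ : ∃ c, c = σ ε * ε := ⟨_, rfl⟩
  obtain ⟨P, hP⟩ : ∃ P, P = adj σ H g1 * g1 := ⟨_, rfl⟩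
  have hPe : P = 1 + a + c • (a * a) := by
    rw [hP, hadj, hg1, Matrix.add_mul, Matrix.mul_add, Matrix.mul_add, Matrix.one_mul,
      Matrix.mul_one, Matrix.one_mul, Matrix.smul_mul, Matrix.mul_smul, smul_smul, hc]
    calc 1 + ε • a + (σ ε • a + (σ ε * ε) • (a * a))
        = 1 + (ε + σ ε) • a + (σ ε * ε) • (a * a) := by rw [add_smul]; abel
      _ = _ := by rw [hε, one_smul]
  have hk1 : InKer hH.pos (a + c • (a * a)) :=
    ha.add _ ((ha.mul_right _ ha.1).smul _ c)
  have hPu : IsUnit P.det := by rw [hPe, add_assoc]; exact hk1.isUnit_det _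
  have hPc : Com P := by
    rw [hPe, add_assoc]; exact Commute.add_left Com.one hk1.1
  have hPa : Commute P a := by
    rw [hPe]
    exact ((Commute.one_left a).add_left (Commute.refl a)).add_left
      (((Commute.refl a).mul_left (Commute.refl a)).smul_left c)
  have hQa : Commute P⁻¹ a := by
    show P⁻¹ * a = a * P⁻¹
    calc P⁻¹ * a = P⁻¹ * (a * P) * P⁻¹ := by
          rw [Matrix.mul_assoc, Matrix.mul_assoc, Matrix.mul_nonsing_inv P hPu, Matrix.mul_one]
      _ = P⁻¹ * (P * a) * P⁻¹ := by rw [hPa.eq]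
      _ = a * P⁻¹ := by rw [← Matrix.mul_assoc P⁻¹, Matrix.nonsing_inv_mul P hPu, Matrix.one_mul]
  have hPs : adj σ H P = P := by
    rw [hP, hH.adj_mul, hH.adj_adj h2]
  have hQs : adj σ H P⁻¹ = P⁻¹ := by rw [hH.adj_inv hPu, hPs]
  obtain ⟨a', ha'⟩ : ∃ a', a' = (-c) • (a * a * P⁻¹) := ⟨_, rfl⟩
  have hk' : InKer hH.pos a' := by
    rw [ha']; exact ((ha.mul_right _ ha.1).mul_right _ (hPc.inv hPu)).smul _ _
  have hs' : adj σ H a' = a' := by
    rw [ha', hH.adj_smul, hH.adj_mul, hH.adj_mul, hQs, hs, map_neg, hc, map_mul, h2,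
      mul_comm ε, ← Matrix.mul_assoc, ((hQa.mul_right hQa)).eq.symm, Matrix.mul_assoc]
  have hpow : a' ^ ((m + 1) / 2) = 0 := by
    rw [ha', smul_pow, Commute.mul_pow (hQa.mul_right hQa).symm, ← pow_two, ← pow_mul,
      pow_eq_zero_of_le (show m ≤ 2 * ((m + 1) / 2) by omega) hm, Matrix.zero_mul, smul_zero]
  obtain ⟨g', hg'c, hg'b, hg'e⟩ := ih ((m + 1) / 2) (by omega) a' hk' hs' hpow
  have hk2 : InKer hH.pos (ε • a) := ha.smul _ ε
  have hg1c : Com g1 := by rw [hg1]; exact Commute.add_left Com.one hk2.1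
  have hcom : Commute a' g1 := by
    rw [ha', hg1]
    refine ((Commute.one_right _).add_right (Commute.smul_right ?_ ε))
    exact (((Commute.refl a).mul_left (Commute.refl a)).mul_left hQa).smul_left (-c)
  refine ⟨g' * g1, Commute.mul_left hg'c hg1c, fun i => ?_, ?_⟩
  · rw [blkM_mul _ hg'c.eq hg1c.eq, hg'b, hg1, blkM_add, blkM_one, hk2.2, add_zero, one_mul]
  · calc adj σ H (g' * g1) * (g' * g1)
        = adj σ H g1 * (adj σ H g' * g') * g1 := by rw [hH.adj_mul]; simp only [Matrix.mul_assoc]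
      _ = P + P * a' := by
          rw [hg'e, Matrix.mul_add, Matrix.mul_one, Matrix.add_mul, Matrix.mul_assoc _ a', hcom.eq,
            ← Matrix.mul_assoc, hP]
      _ = P + -c • (a * a) := by
          rw [ha', Matrix.mul_smul, (hQa.mul_right hQa).symm.eq, ← Matrix.mul_assoc,
            Matrix.mul_nonsing_inv P hPu, Matrix.one_mul]
      _ = 1 + a := by rw [hPe, neg_smul]; abel

end CfsgLib.KnownB.UnitJordan
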